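import Mathlib
import Groth.Prelude.Def_CycDet

/-!
# The determinant of a finite length module: pivot functional
-/

universe u v

open IsLocalRing

namespace Groth.Agent.CycDetFun

open CycDet

variable {R : Type u} [CommRing R] [IsLocalRing R] {M : Type v} [AddCommGroup M] [Module R M] {l : ℕ}

theorem spanBefore_mono (e : Fin l → M) {i j : ℕ} (h : i ≤ j) : spanBefore R M e i ≤ spanBefore R M e j :=
  Submodule.span_mono (Set.image_mono fun _ hk => lt_of_lt_of_le hk h)

theorem spanBefore_zero (e : Fin l → M) : spanBefore R M e 0 = ⊥ := by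
  simp [spanBefore]

theorem spanBefore_self (e : Fin l → M) : spanBefore R M e l = Submodule.span R (Set.range e) := by
  rw [spanBefore, show {j : Fin l | (j : ℕ) < l} = Set.univ from Set.eq_univ_of_forall fun j => j.2, Set.image_univ]

theorem spanBefore_succ (e : Fin l → M) (i : Fin l) :
    spanBefore R M e (i + 1) = spanBefore R M e i ⊔ Submodule.span R {e i} := by
  rw [spanBefore, spanBefore, ← Submodule.span_union, ← Set.image_singleton, ← Set.image_union]
  congr 2
  ext j
  simp only [Set.mem_setOf_eq, Set.mem_union, Set.mem_singleton_iff, Fin.ext_iff]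
  omega

theorem mem_spanBefore (e : Fin l → M) {j : Fin l} {i : ℕ} (h : (j : ℕ) < i) : e j ∈ spanBefore R M e i :=
  Submodule.subset_span ⟨j, h, rfl⟩

theorem spanBefore_le_iff (e : Fin l → M) {i : ℕ} {N : Submodule R M} :
    spanBefore R M e i ≤ N ↔ ∀ j : Fin l, (j : ℕ) < i → e j ∈ N :=
  ⟨fun h _ hj => h (mem_spanBefore e hj), fun h => Submodule.span_le.mpr (by rintro _ ⟨j, hj, rfl⟩; exact h j hj)⟩

theorem spanBefore_congr {e e' : Fin l → M} {i : ℕ} (h : ∀ j : Fin l, (j : ℕ) < i → e j = e' j) :
    spanBefore R M e i = spanBefore R M e' i :=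
  le_antisymm ((spanBefore_le_iff e).mpr fun j hj => h j hj ▸ mem_spanBefore e' hj)
    ((spanBefore_le_iff e').mpr fun j hj => (h j hj).symm ▸ mem_spanBefore e hj)

theorem mem_sup_mono {V V' W W' : Submodule R M} {v : M} (h₁ : V ≤ V') (h₂ : W ≤ W') (hv : v ∈ V ⊔ W) : v ∈ V' ⊔ W' :=
  (sup_le_sup h₁ h₂ : V ⊔ W ≤ V' ⊔ W') hv

theorem isUnit_of_residue_ne_zero {r : R} (h : residue R r ≠ 0) : IsUnit r := by
  by_contra hu
  exact h ((residue_eq_zero_iff r).mpr ((mem_maximalIdeal r).mpr hu))

theorem smul_mem_of_unit {N : Submodule R M} {r : R} (hr : IsUnit r) {v : M} (h : r • v ∈ N) : v ∈ N := by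
  obtain ⟨w, rfl⟩ := hr
  simpa [smul_smul] using N.smul_mem ((w⁻¹ : Rˣ) : R) h

/-- Replacing an entry by a unit multiple plus an element of the earlier span keeps all the spans. -/
theorem spanBefore_update {e e' : Fin l → M} {a : Fin l} {c : R} (hc : IsUnit c) (hne : ∀ j, j ≠ a → e j = e' j)
    (ha : e a - c • e' a ∈ spanBefore R M e a) (i : ℕ) : spanBefore R M e i = spanBefore R M e' i := by
  have hV : spanBefore R M e a = spanBefore R M e' a :=
    spanBefore_congr fun j hj => hne j fun h => by subst h; exact lt_irrefl _ hj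
  rcases le_or_gt i a with hia | hai
  · exact spanBefore_congr fun j hj => hne j fun h => by subst h; exact absurd hj (not_lt.mpr hia)
  · apply le_antisymm
    · refine (spanBefore_le_iff e).mpr fun j hj => ?_
      rcases eq_or_ne j a with rfl | hja
      · have h1 := spanBefore_mono e' hai.le (hV ▸ ha)
        simpa using add_mem h1 ((spanBefore R M e' i).smul_mem c (mem_spanBefore e' hj))
      · exact hne j hja ▸ mem_spanBefore e' hj
    · refine (spanBefore_le_iff e').mpr fun j hj => ?_
      rcases eq_or_ne j a with rfl | hja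
      · refine smul_mem_of_unit hc ?_
        have h1 := spanBefore_mono e hai.le ha
        simpa using sub_mem (mem_spanBefore e hj) h1
      · exact (hne j hja).symm ▸ mem_spanBefore e hj

theorem spanBefore_swap {e : Fin l → M} {a b : Fin l} (hab : (b : ℕ) + 1 = a) {i : ℕ} (hi : i ≠ (a : ℕ)) :
    spanBefore R M (e ∘ Equiv.swap a b) i = spanBefore R M e i := by
  have h : ∀ j : Fin l, (j : ℕ) < i → ((Equiv.swap a b j : Fin l) : ℕ) < i := by
    intro j hj
    rcases eq_or_ne j a with rfl | h1
    · rw [Equiv.swap_apply_left]; omega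
    rcases eq_or_ne j b with rfl | h2
    · rw [Equiv.swap_apply_right]; omega
    rwa [Equiv.swap_apply_of_ne_of_ne h1 h2]
  apply le_antisymm
  · exact (spanBefore_le_iff _).mpr fun j hj => mem_spanBefore e (h j hj)
  · refine (spanBefore_le_iff e).mpr fun j hj => ?_
    have := mem_spanBefore (R := R) (e ∘ Equiv.swap a b) (h j hj)
    simpa using this

/-- `v` jumps at step `t` of the filtration of `x` modulo `V`, with leading coefficient `c`. -/
def Piv (x : Fin l → M) (V : Submodule R M) (v : M) (t : Fin l) (c : ResidueField R) : Prop :=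
  v ∉ V ⊔ spanBefore R M x t ∧ ∃ r : R, residue R r = c ∧ v - r • x t ∈ V ⊔ spanBefore R M x t

variable {x : Fin l → M} {V : Submodule R M} {v : M} {t : Fin l} {c : ResidueField R}

theorem mem_succ_of_piv (h : Piv x V v t c) : v ∈ V ⊔ spanBefore R M x (t + 1) := by
  obtain ⟨-, r, -, hr⟩ := h
  rw [spanBefore_succ, ← sup_assoc]
  have := add_mem (Submodule.mem_sup_left (T := Submodule.span R {x t}) hr)
    (Submodule.mem_sup_right (Submodule.smul_mem _ r (Submodule.mem_span_singleton_self (x t))))
  simpa using this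

theorem Piv.notMem (h : Piv x V v t c) : v ∉ V := fun hv => h.1 (Submodule.mem_sup_left hv)

theorem smul_mem_before (hx : IsAdmissible R M x) {r : R} (hr : residue R r = 0) :
    r • x t ∈ V ⊔ spanBefore R M x t :=
  Submodule.mem_sup_right (hx t r ((residue_eq_zero_iff r).mp hr))

theorem Piv.ne_zero (hx : IsAdmissible R M x) (h : Piv x V v t c) : c ≠ 0 := by
  rintro rfl
  obtain ⟨h1, r, hr, hr'⟩ := h
  exact h1 (by simpa using add_mem hr' (smul_mem_before hx hr))

theorem exists_piv (hx' : Submodule.span R (Set.range x) = ⊤) (hv : v ∉ V) : ∃ t c, Piv x V v t c := by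
  have key : ∀ n, n ≤ l → v ∈ V ⊔ spanBefore R M x n → ∃ t c, Piv x V v t c := by
    intro n
    induction n with
    | zero => exact fun _ h => absurd (by simpa [spanBefore_zero] using h) hv
    | succ n ih =>
      intro hn h
      by_cases h' : v ∈ V ⊔ spanBefore R M x n
      · exact ih (by omega) h'
      · rw [show n + 1 = ((⟨n, hn⟩ : Fin l) : ℕ) + 1 from rfl, spanBefore_succ, ← sup_assoc,
          Submodule.mem_sup] at h
        obtain ⟨y, hy, z, hz, rfl⟩ := h
        obtain ⟨r, rfl⟩ := Submodule.mem_span_singleton.mp hz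
        exact ⟨⟨n, hn⟩, residue R r, h', r, rfl, by simpa using hy⟩
  exact key l le_rfl (by rw [spanBefore_self, hx', sup_top_eq]; trivial)

theorem Piv.unique (hx : IsAdmissible R M x) {t' : Fin l} {c' : ResidueField R} (h : Piv x V v t c)
    (h' : Piv x V v t' c') : t = t' ∧ c = c' := by
  have key : ∀ {t t' : Fin l} {c c' : ResidueField R}, Piv x V v t c → Piv x V v t' c' → (t : ℕ) ≤ t' :=
    fun {t t'} {_ _} h h' => by
      by_contra hlt
      exact h.1 (mem_sup_mono le_rfl (spanBefore_mono x (Nat.succ_le_of_lt (not_le.mp hlt))) (mem_succ_of_piv h'))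
  obtain rfl : t = t' := Fin.ext (le_antisymm (key h h') (key h' h))
  refine ⟨rfl, ?_⟩
  obtain ⟨h1, r, rfl, hr⟩ := h
  obtain ⟨-, r', rfl, hr'⟩ := h'
  by_contra hne
  have hu : IsUnit (r - r') := isUnit_of_residue_ne_zero (by rw [map_sub]; exact sub_ne_zero.mpr hne)
  have hxt : x t ∈ V ⊔ spanBefore R M x t := smul_mem_of_unit hu (by
    have := sub_mem hr' hr
    rw [sub_smul]; simpa using this)
  exact h1 (by simpa using add_mem hr ((V ⊔ spanBefore R M x t).smul_mem r hxt))

/-- A later vector never jumps at a step already used. -/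
theorem Piv.killed (hx : IsAdmissible R M x) (h : Piv x V v t c) {W : Submodule R M} (hVW : V ≤ W) (hv : v ∈ W)
    {w : M} {c' : ResidueField R} : ¬ Piv x W w t c' := by
  intro hw
  obtain ⟨r', -, hr'⟩ := hw.2
  obtain ⟨r, rfl, hr⟩ := h.2
  have hxt : x t ∈ W ⊔ spanBefore R M x t := by
    refine smul_mem_of_unit (isUnit_of_residue_ne_zero (h.ne_zero hx)) ?_
    have := sub_mem (Submodule.mem_sup_left (T := spanBefore R M x t) hv) (mem_sup_mono hVW le_rfl hr)
    simpa using this
  exact hw.1 (by simpa using add_mem hr' ((W ⊔ spanBefore R M x t).smul_mem r' hxt))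

theorem Piv.smul_add (h : Piv x V v t c) {k : R} (hk : IsUnit k) {w : M} (hw : w ∈ V) :
    Piv x V (k • v + w) t (residue R k * c) := by
  obtain ⟨h1, r, rfl, hr⟩ := h
  refine ⟨fun hh => h1 (smul_mem_of_unit hk ?_), k * r, map_mul _ _ _, ?_⟩
  · simpa using sub_mem hh (Submodule.mem_sup_left (T := spanBefore R M x t) hw)
  · have := add_mem ((V ⊔ spanBefore R M x t).smul_mem k hr) (Submodule.mem_sup_left (T := spanBefore R M x t) hw)
    rw [smul_sub, smul_smul] at this
    convert this using 1
    abel

/-- A jump survives adding a vector jumping elsewhere. -/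
theorem Piv.sup (h : Piv x V v t c) {u : M} {s : Fin l} {d : ResidueField R}
    (hu : Piv x V u s d) (hm : ∀ r ∈ maximalIdeal R, r • u ∈ V) (hne : s ≠ t) :
    Piv x (V ⊔ Submodule.span R {u}) v t c := by
  obtain ⟨h1, r, hr0, hr⟩ := h
  refine ⟨fun hh => ?_, r, hr0, mem_sup_mono le_sup_left le_rfl hr⟩
  rw [sup_right_comm] at hh
  obtain ⟨y, hy, z, hz, hyz⟩ := Submodule.mem_sup.mp hh
  obtain ⟨k, rfl⟩ := Submodule.mem_span_singleton.mp hz
  by_cases hk : k ∈ maximalIdeal R
  · exact h1 (hyz ▸ add_mem hy (Submodule.mem_sup_left (hm k hk)))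
  · have hku : IsUnit k := by simpa using hk
    rcases lt_or_gt_of_ne (fun hst => hne (Fin.ext hst) : (s : ℕ) ≠ t) with hst | hts
    · exact h1 (hyz ▸ add_mem hy ((V ⊔ spanBefore R M x t).smul_mem k
        (mem_sup_mono le_rfl (spanBefore_mono x (Nat.succ_le_of_lt hst)) (mem_succ_of_piv hu))))
    · refine hu.1 (smul_mem_of_unit hku ?_)
      have hv' : v ∈ V ⊔ spanBefore R M x s :=
        mem_sup_mono le_rfl (spanBefore_mono x (Nat.succ_le_of_lt hts)) (mem_succ_of_piv ⟨h1, r, hr0, hr⟩)
      have hy' : y ∈ V ⊔ spanBefore R M x s := mem_sup_mono le_rfl (spanBefore_mono x hts.le) hy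
      have := sub_mem hv' hy'
      rw [← hyz] at this
      simpa using this

/-- Some entry lies in the span of the earlier ones. -/
def Deg (e : Adm R M l) : Prop := ∃ a : Fin l, e.1 a ∈ spanBefore R M e.1 a

/-- The value of the determinant functional attached to `x`. -/
def Val (x : Fin l → M) (e : Adm R M l) (α : ResidueField R) : Prop :=
  (Deg e ∧ α = 0) ∨ ∃ (p : Equiv.Perm (Fin l)) (c : Fin l → ResidueField R),
    (∀ i : Fin l, Piv x (spanBefore R M e.1 i) (e.1 i) (p i) (c i)) ∧ α = ((Equiv.Perm.sign p : ℤ) : ResidueField R) * ∏ i, c i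

theorem Val.unique (hx : IsAdmissible R M x) {e : Adm R M l} {α β : ResidueField R} (h : Val x e α) (h' : Val x e β) :
    α = β := by
  rcases h with ⟨⟨a, ha⟩, hα⟩ | ⟨p, c, hp, rfl⟩
  · rcases h' with ⟨-, hβ⟩ | ⟨p', c', hp', -⟩
    · rw [hα, hβ]
    · exact absurd ha (hp' a).notMem
  · rcases h' with ⟨⟨a, ha⟩, -⟩ | ⟨p', c', hp', rfl⟩
    · exact absurd ha (hp a).notMem
    · obtain rfl : p = p' := Equiv.ext fun i => ((hp i).unique hx (hp' i)).1
      rw [funext fun i => ((hp i).unique hx (hp' i)).2]

theorem exists_val (hx : IsAdmissible R M x) (hx' : Submodule.span R (Set.range x) = ⊤) (e : Adm R M l) :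
    ∃ α, Val x e α := by
  by_cases hd : Deg e
  · exact ⟨0, Or.inl ⟨hd, rfl⟩⟩
  · rw [Deg] at hd
    push Not at hd
    choose p c hp using fun i : Fin l => exists_piv hx' (hd i)
    have hinj : Function.Injective p := by
      have key : ∀ i j : Fin l, i < j → p i ≠ p j := fun i j hij hpq =>
        (hp i).killed hx (spanBefore_mono e.1 (le_of_lt (show (i : ℕ) < j from hij))) (mem_spanBefore e.1 hij)
          (hpq ▸ hp j)
      intro i j hij
      rcases lt_trichotomy i j with h | h | h
      · exact absurd hij (key i j h)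
      · exact h
      · exact absurd hij.symm (key j i h)
    exact ⟨_, Or.inr ⟨Equiv.ofBijective p (Finite.injective_iff_bijective.mp hinj), c, hp, rfl⟩⟩

theorem Val.update {e e' : Adm R M l} {a : Fin l} {k : Rˣ}
    (hne : ∀ j, j ≠ a → e.1 j = e'.1 j) (ha : e.1 a - (k : R) • e'.1 a ∈ spanBefore R M e.1 a)
    {α : ResidueField R} (h : Val x e' α) : Val x e (residue R (k : R) * α) := by
  have hs : ∀ i, spanBefore R M e.1 i = spanBefore R M e'.1 i := spanBefore_update k.isUnit hne ha
  rcases h with ⟨⟨i, hi⟩, rfl⟩ | ⟨p, c, hp, rfl⟩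
  · refine Or.inl ⟨⟨i, ?_⟩, mul_zero _⟩
    rcases eq_or_ne i a with rfl | hia
    · have h0 : e'.1 i ∈ spanBefore R M e.1 i := (hs i).symm ▸ hi
      simpa using add_mem ha ((spanBefore R M e.1 i).smul_mem (k : R) h0)
    · rw [hne i hia, hs]; exact hi
  · refine Or.inr ⟨p, Function.update c a (residue R (k : R) * c a), fun i => ?_, ?_⟩
    · rcases eq_or_ne i a with rfl | hia
      · have := (hp i).smul_add k.isUnit (hs i ▸ ha : e.1 i - (k : R) • e'.1 i ∈ spanBefore R M e'.1 i)
        rw [Function.update_self, hs]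
        simpa using this
      · rw [Function.update_of_ne hia, hne i hia, hs]
        exact hp i
    · rw [Finset.prod_update_of_mem (Finset.mem_univ a),
        ← Finset.mul_prod_erase Finset.univ c (Finset.mem_univ a), Finset.sdiff_singleton_eq_erase]
      ring

theorem deg_swap {e e' : Adm R M l} {a b : Fin l} (hab : (b : ℕ) + 1 = a) (he' : e'.1 = e.1 ∘ Equiv.swap a b)
    (h : Deg e) : Deg e' := by
  obtain ⟨i, hi⟩ := h
  have hVb : spanBefore R M e'.1 b = spanBefore R M e.1 b := he' ▸ spanBefore_swap hab (by omega)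
  have hVa : spanBefore R M e'.1 a = spanBefore R M e.1 b ⊔ Submodule.span R {e.1 a} := by
    rw [← hab, spanBefore_succ, hVb, he']; simp
  have hb : e'.1 b = e.1 a := by simp [he']
  have ha : e'.1 a = e.1 b := by simp [he']
  rcases eq_or_ne i b with rfl | hib
  · exact ⟨a, by rw [ha, hVa]; exact Submodule.mem_sup_left hi⟩
  rcases eq_or_ne i a with rfl | hia
  · rw [← hab, spanBefore_succ, Submodule.mem_sup] at hi
    obtain ⟨y, hy, z, hz, hyz⟩ := hi
    obtain ⟨r, rfl⟩ := Submodule.mem_span_singleton.mp hz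
    by_cases hr : r ∈ maximalIdeal R
    · exact ⟨b, by rw [hb, hVb, ← hyz]; exact add_mem hy (e.2 b r hr)⟩
    · refine ⟨i, ?_⟩
      rw [ha, hVa]
      refine smul_mem_of_unit (show IsUnit r by simpa using hr) ?_
      have h2 := sub_mem (Submodule.mem_sup_right (S := spanBefore R M e.1 b) (Submodule.mem_span_singleton_self (e.1 i)))
        (Submodule.mem_sup_left (T := Submodule.span R {e.1 i}) hy)
      have h3 : e.1 i - y = r • e.1 b := by rw [← hyz]; abel
      rwa [h3] at h2
  · refine ⟨i, ?_⟩
    rw [he', spanBefore_swap hab (fun h => hia (Fin.ext h))]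
    simpa [Equiv.swap_apply_of_ne_of_ne hia hib] using hi

theorem Val.swap (hx : IsAdmissible R M x) (hx' : Submodule.span R (Set.range x) = ⊤) {e e' : Adm R M l}
    {a b : Fin l} (hab : (b : ℕ) + 1 = a) (hm : ∀ r ∈ maximalIdeal R, r • e.1 a ∈ spanBefore R M e.1 b)
    (he' : e'.1 = e.1 ∘ Equiv.swap a b) {α : ResidueField R} (h : Val x e α) : Val x e' (-α) := by
  rcases h with ⟨hd, rfl⟩ | ⟨p, c, hp, rfl⟩
  · exact Or.inl ⟨deg_swap hab he' hd, neg_zero⟩
  have hba : b ≠ a := fun h => by subst h; omega
  have hVb : spanBefore R M e'.1 b = spanBefore R M e.1 b := he' ▸ spanBefore_swap hab (by omega)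
  have hVa : spanBefore R M e'.1 a = spanBefore R M e.1 b ⊔ Submodule.span R {e.1 a} := by
    rw [← hab, spanBefore_succ, hVb, he']; simp
  have hea : spanBefore R M e.1 a = spanBefore R M e.1 b ⊔ Submodule.span R {e.1 b} := by
    rw [← hab, spanBefore_succ]
  have hb : e'.1 b = e.1 a := by simp [he']
  have ha : e'.1 a = e.1 b := by simp [he']
  have hu : Piv x (spanBefore R M e.1 b) (e.1 b) (p b) (c b) := hp b
  have hv₂ : Piv x (spanBefore R M e.1 b ⊔ Submodule.span R {e.1 b}) (e.1 a) (p a) (c a) := hea ▸ hp a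
  obtain ⟨s, d, hv⟩ := exists_piv (x := x) hx' (v := e.1 a) (V := spanBefore R M e.1 b)
    fun hh => hv₂.notMem (Submodule.mem_sup_left hh)
  have hrest : ∀ i : Fin l, i ≠ a → i ≠ b → Piv x (spanBefore R M e'.1 i) (e'.1 i) (p i) (c i) := fun i hia hib => by
    rw [he', spanBefore_swap hab (fun h => hia (Fin.ext h)), Function.comp_apply,
      Equiv.swap_apply_of_ne_of_ne hia hib]
    exact hp i
  have hsplit : ∀ f : Fin l → ResidueField R,
      ∏ i, f i = f a * (f b * ∏ i ∈ (Finset.univ.erase a).erase b, f i) := fun f => by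
    rw [← Finset.mul_prod_erase _ _ (Finset.mem_univ a),
      ← Finset.mul_prod_erase (Finset.univ.erase a) f (a := b) (by simp [hba])]
  by_cases hs : s = p b
  · subst hs
    refine Or.inr ⟨p, Function.update (Function.update c b d) a (-(c b * c a) / d), fun i => ?_, ?_⟩
    · rcases eq_or_ne i a with rfl | hia
      · rw [Function.update_self, hVa, ha]
        obtain ⟨ρ, hρ⟩ := residue_surjective (R := R) (d / c b)
        have hd0 := hv.ne_zero hx
        have hc0 := hu.ne_zero hx
        have hρu : IsUnit ρ := isUnit_of_residue_ne_zero (by rw [hρ]; exact div_ne_zero hd0 hc0)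
        set z := e.1 i - ρ • e.1 b with hz
        have hzV : z ∈ spanBefore R M e.1 b ⊔ spanBefore R M x (p b) := by
          obtain ⟨r, hr0, hr⟩ := hv.2
          obtain ⟨r1, hr10, hr1⟩ := hu.2
          have h3 : residue R (r - ρ * r1) = 0 := by
            rw [map_sub, map_mul, hr0, hρ, hr10, div_mul_cancel₀ _ hc0, sub_self]
          have := add_mem (sub_mem hr ((spanBefore R M e.1 b ⊔ spanBefore R M x (p b)).smul_mem ρ hr1))
            (smul_mem_before (V := spanBefore R M e.1 b) (t := p b) hx h3)
          convert this using 1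
          rw [hz, sub_smul, smul_sub, smul_smul]
          abel
        have hz₂ : Piv x (spanBefore R M e.1 b ⊔ Submodule.span R {e.1 b}) z (p i) (c i) := by
          have := hv₂.smul_add isUnit_one (w := -(ρ • e.1 b))
            (neg_mem (Submodule.mem_sup_right (Submodule.smul_mem _ ρ (Submodule.mem_span_singleton_self _))))
          simpa [hz, sub_eq_add_neg] using this
        obtain ⟨t, c', hzp⟩ := exists_piv (x := x) hx' (v := z) (V := spanBefore R M e.1 b)
          fun hh => hz₂.notMem (Submodule.mem_sup_left hh)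
        have htb : p b ≠ t := by
          intro htb
          subst htb
          exact hzp.1 hzV
        obtain ⟨ht, hc'⟩ := (hzp.sup hu (e.2 b) htb).unique hx hz₂
        subst ht; subst hc'
        have h4 := hzp.sup hv hm htb
        obtain ⟨w, hw⟩ := hρu
        have h5 := h4.smul_add (k := -((w⁻¹ : Rˣ) : R)) (w⁻¹).isUnit.neg
          (w := ((w⁻¹ : Rˣ) : R) • e.1 i) (Submodule.mem_sup_right (Submodule.smul_mem _ _ (Submodule.mem_span_singleton_self _)))
        convert h5 using 1
        · rw [hz, ← hw, neg_smul, smul_sub, smul_smul, Units.inv_mul, one_smul]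
          abel
        · have hinv : residue R ((w⁻¹ : Rˣ) : R) = c b / d := by
            refine mul_left_cancel₀ (div_ne_zero hd0 hc0) ?_
            nth_rw 1 [← hρ]
            rw [← hw, ← map_mul, Units.mul_inv, map_one]
            field_simp
          rw [map_neg, hinv]
          ring
      rcases eq_or_ne i b with rfl | hib
      · rw [Function.update_of_ne hia, Function.update_self, hVb, hb]
        exact hv
      · rw [Function.update_of_ne hia, Function.update_of_ne hib]
        exact hrest i hia hib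
    · rw [hsplit c, hsplit (Function.update (Function.update c b d) a (-(c b * c a) / d)), Function.update_self, Function.update_of_ne hba, Function.update_self]
      have : ∏ i ∈ (Finset.univ.erase a).erase b, Function.update (Function.update c b d) a (-(c b * c a) / d) i =
          ∏ i ∈ (Finset.univ.erase a).erase b, c i :=
        Finset.prod_congr rfl fun i hi => by
          simp only [Finset.mem_erase] at hi
          rw [Function.update_of_ne hi.2.1, Function.update_of_ne hi.1]
      have hd0 := hv.ne_zero hx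
      rw [this]
      field_simp
  · obtain ⟨hsa, hda⟩ := (hv.sup hu (e.2 b) (Ne.symm hs)).unique hx hv₂
    subst hsa; subst hda
    refine Or.inr ⟨(Equiv.swap a b).trans p, fun i => c (Equiv.swap a b i), fun i => ?_, ?_⟩
    · rcases eq_or_ne i a with rfl | hia
      · simp only [Equiv.trans_apply, Equiv.swap_apply_left, hVa, ha]
        exact hu.sup hv hm hs
      rcases eq_or_ne i b with rfl | hib
      · simp only [Equiv.trans_apply, Equiv.swap_apply_right, hVb, hb]
        exact hv
      · simp only [Equiv.trans_apply, Equiv.swap_apply_of_ne_of_ne hia hib]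
        exact hrest i hia hib
    · rw [Equiv.prod_comp (Equiv.swap a b) c, Equiv.Perm.sign_trans, Equiv.Perm.sign_swap hba.symm]
      push_cast
      ring

/-- The determinant functional attached to a spanning tuple. -/
noncomputable def phi (x : Adm R M l) (hx' : Submodule.span R (Set.range x.1) = ⊤) (e : Adm R M l) : ResidueField R :=
  (exists_val x.2 hx' e).choose

theorem phi_eq (x : Adm R M l) (hx' : Submodule.span R (Set.range x.1) = ⊤) {e : Adm R M l} {α : ResidueField R}
    (h : Val x.1 e α) : phi x hx' e = α :=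
  (exists_val x.2 hx' e).choose_spec.unique x.2 h

theorem val_phi (x : Adm R M l) (hx' : Submodule.span R (Set.range x.1) = ⊤) (e : Adm R M l) :
    Val x.1 e (phi x hx' e) :=
  (exists_val x.2 hx' e).choose_spec

/-- The functional on symbols. -/
noncomputable def detFun (x : Adm R M l) (hx' : Submodule.span R (Set.range x.1) = ⊤) :
    DetOfLen R M l →ₗ[ResidueField R] ResidueField R :=
  Submodule.liftQ _ (Finsupp.linearCombination (ResidueField R) (phi x hx')) (by
    rw [Submodule.span_le]
    rintro y ((⟨e, a, ha, rfl⟩ | ⟨e, e', a, c, hne, ha, rfl⟩) | ⟨e, e', a, b, hab, hm, he', rfl⟩)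
    · rw [SetLike.mem_coe, LinearMap.mem_ker, sym, Finsupp.linearCombination_single, one_smul]
      exact phi_eq x hx' (Or.inl ⟨⟨a, ha⟩, rfl⟩)
    · rw [SetLike.mem_coe, LinearMap.mem_ker, map_sub, map_smul, sym, sym, Finsupp.linearCombination_single,
        Finsupp.linearCombination_single, one_smul, one_smul, sub_eq_zero]
      exact phi_eq x hx' ((val_phi x hx' e').update hne ha)
    · rw [SetLike.mem_coe, LinearMap.mem_ker, map_add, sym, sym, Finsupp.linearCombination_single,
        Finsupp.linearCombination_single, one_smul, one_smul,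
        phi_eq x hx' ((val_phi x hx' e).swap x.2 hx' hab hm he'), add_neg_cancel])

theorem detFun_mk (x : Adm R M l) (hx' : Submodule.span R (Set.range x.1) = ⊤) (e : Adm R M l) :
    detFun x hx' (Submodule.Quotient.mk (sym R M e)) = phi x hx' e := by
  simp [detFun, sym]

end Groth.Agent.CycDetFun
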