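import Groth.Agent.CycDetFun.Main

/-!
# The determinant of a short exact sequence, and of a vector space
-/

universe u v

open IsLocalRing TensorProduct

namespace Groth.Agent.CycDetFun

open CycDet

section

variable {R : Type u} [CommRing R] [IsLocalRing R] {K L M : Type u} [AddCommGroup K] [Module R K] [AddCommGroup L]
  [Module R L] [AddCommGroup M] [Module R M] {f : K →ₗ[R] L} {g : L →ₗ[R] M} {k m l : ℕ}

theorem spanBefore_left (hlen : k + m = l) {eK : Fin k → K} {eL : Fin l → L}
    (hK : ∀ i : Fin k, eL (Fin.cast hlen (Fin.castAdd m i)) = f (eK i)) {i : ℕ} (hi : i ≤ k) :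
    spanBefore R L eL i = (spanBefore R K eK i).map f := by
  subst hlen
  refine le_antisymm ((spanBefore_le_iff eL).mpr fun j hj => ?_) ?_
  · exact ⟨eK ⟨j, lt_of_lt_of_le hj hi⟩, mem_spanBefore eK hj, (hK ⟨j, lt_of_lt_of_le hj hi⟩).symm⟩
  · rw [Submodule.map_le_iff_le_comap, spanBefore_le_iff]
    intro j hj
    rw [Submodule.mem_comap, ← hK j]
    exact mem_spanBefore eL hj

theorem spanBefore_right (hfg : LinearMap.range f = LinearMap.ker g) (hlen : k + m = l) {eK : Fin k → K}
    {eM : Fin m → M} {eL : Fin l → L} (hK : ∀ i : Fin k, eL (Fin.cast hlen (Fin.castAdd m i)) = f (eK i))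
    (hM : ∀ j : Fin m, g (eL (Fin.cast hlen (Fin.natAdd k j))) = eM j)
    (hsp : Submodule.span R (Set.range eK) = ⊤) (i : ℕ) :
    spanBefore R L eL (k + i) = (spanBefore R M eM i).comap g := by
  subst hlen
  have hker : LinearMap.ker g ≤ spanBefore R L eL (k + i) := by
    rw [← hfg, LinearMap.range_eq_map, ← hsp, ← spanBefore_self, ← spanBefore_left rfl hK le_rfl]
    exact spanBefore_mono eL (Nat.le_add_right k i)
  apply le_antisymm
  · refine (spanBefore_le_iff eL).mpr fun j hj => ?_
    induction j using Fin.addCases with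
    | left j =>
      have : eL (Fin.castAdd m j) = f (eK j) := hK j
      rw [Submodule.mem_comap, this, show g (f (eK j)) = 0 from LinearMap.mem_ker.mp (hfg ▸ LinearMap.mem_range_self f _)]
      exact Submodule.zero_mem _
    | right j =>
      rw [Submodule.mem_comap]
      have : g (eL (Fin.natAdd k j)) = eM j := hM j
      rw [this]
      exact mem_spanBefore eM (by simpa using hj)
  · have h1 : spanBefore R M eM i ≤ (spanBefore R L eL (k + i)).map g := by
      refine (spanBefore_le_iff eM).mpr fun j hj => ?_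
      exact ⟨eL (Fin.natAdd k j), mem_spanBefore eL (show ((Fin.natAdd k j : Fin (k + m)) : ℕ) < k + i by simpa using hj), hM j⟩
    calc (spanBefore R M eM i).comap g ≤ ((spanBefore R L eL (k + i)).map g).comap g := Submodule.comap_mono h1
      _ = _ := by rw [Submodule.comap_map_eq, sup_eq_left.mpr hker]

theorem comap_sup_of_surjective (hg : Function.Surjective g) (A B : Submodule R M) :
    A.comap g ⊔ B.comap g = (A ⊔ B).comap g := by
  conv_rhs => rw [← Submodule.map_comap_eq_of_surjective hg A, ← Submodule.map_comap_eq_of_surjective hg B,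
    ← Submodule.map_sup, Submodule.comap_map_eq]
  refine (sup_eq_left.mpr ?_).symm
  exact le_sup_of_le_left (fun v hv => by rw [Submodule.mem_comap, LinearMap.mem_ker.mp hv]; exact A.zero_mem)

theorem val_append (hf : Function.Injective f) (hg : Function.Surjective g)
    (hfg : LinearMap.range f = LinearMap.ker g) (hlen : k + m = l) {xK eK : Adm R K k} {xM eM : Adm R M m}
    {xL eL : Adm R L l} (hxK : ∀ i, xL.1 (Fin.cast hlen (Fin.castAdd m i)) = f (xK.1 i))
    (hxM : ∀ j, g (xL.1 (Fin.cast hlen (Fin.natAdd k j))) = xM.1 j)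
    (heK : ∀ i, eL.1 (Fin.cast hlen (Fin.castAdd m i)) = f (eK.1 i))
    (heM : ∀ j, g (eL.1 (Fin.cast hlen (Fin.natAdd k j))) = eM.1 j)
    (hsx : Submodule.span R (Set.range xK.1) = ⊤) (hse : Submodule.span R (Set.range eK.1) = ⊤)
    {α β : ResidueField R} (hα : Val xK.1 eK α) (hβ : Val xM.1 eM β) : Val xL.1 eL (α * β) := by
  rcases hα with ⟨⟨a, ha⟩, rfl⟩ | ⟨p, c, hp, rfl⟩
  · refine Or.inl ⟨⟨Fin.cast hlen (Fin.castAdd m a), ?_⟩, zero_mul _⟩
    rw [heK]
    change f _ ∈ spanBefore R L eL.1 (a : ℕ)
    rw [spanBefore_left hlen heK a.2.le]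
    exact Submodule.mem_map_of_mem ha
  rcases hβ with ⟨⟨a, ha⟩, rfl⟩ | ⟨q, d, hq, rfl⟩
  · refine Or.inl ⟨⟨Fin.cast hlen (Fin.natAdd k a), ?_⟩, mul_zero _⟩
    change eL.1 _ ∈ spanBefore R L eL.1 (k + (a : ℕ))
    rw [spanBefore_right hfg hlen heK heM hse, Submodule.mem_comap, heM]
    exact ha
  subst hlen
  have hinl : ∀ i : Fin k, Piv xL.1 (spanBefore R L eL.1 (i : ℕ)) (f (eK.1 i)) (Fin.castAdd m (p i)) (c i) := by
    intro i
    obtain ⟨h1, r, hr, h2⟩ := hp i
    have hmap : spanBefore R L eL.1 (i : ℕ) ⊔ spanBefore R L xL.1 (p i : ℕ) =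
        (spanBefore R K eK.1 i ⊔ spanBefore R K xK.1 (p i)).map f := by
      rw [Submodule.map_sup, spanBefore_left rfl heK i.2.le, spanBefore_left rfl hxK (p i).2.le]
    refine ⟨fun h => h1 ?_, r, hr, ?_⟩
    · rw [Fin.val_castAdd, hmap] at h
      obtain ⟨w, hw, hww⟩ := h
      exact hf hww ▸ hw
    · rw [Fin.val_castAdd, hmap, show xL.1 (Fin.castAdd m (p i)) = f (xK.1 (p i)) from hxK (p i), ← map_smul, ← map_sub]
      exact Submodule.mem_map_of_mem h2
  have hinr : ∀ j : Fin m, Piv xL.1 (spanBefore R L eL.1 (k + (j : ℕ))) (eL.1 (Fin.natAdd k j)) (Fin.natAdd k (q j)) (d j) := by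
    intro j
    obtain ⟨h1, r, hr, h2⟩ := hq j
    have hmap : spanBefore R L eL.1 (k + (j : ℕ)) ⊔ spanBefore R L xL.1 (k + (q j : ℕ)) =
        (spanBefore R M eM.1 j ⊔ spanBefore R M xM.1 (q j)).comap g := by
      rw [spanBefore_right hfg rfl heK heM hse, spanBefore_right hfg rfl hxK hxM hsx, comap_sup_of_surjective hg]
    have he : g (eL.1 (Fin.natAdd k j)) = eM.1 j := heM j
    have hx : g (xL.1 (Fin.natAdd k (q j))) = xM.1 (q j) := hxM (q j)
    refine ⟨fun h => h1 ?_, r, hr, ?_⟩
    · rw [Fin.val_natAdd, hmap, Submodule.mem_comap, he] at h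
      exact h
    · rw [Fin.val_natAdd, hmap, Submodule.mem_comap, map_sub, map_smul, he, hx]
      exact h2
  refine Or.inr ⟨finSumFinEquiv.permCongr (Equiv.Perm.sumCongr p q), Fin.append c d, fun i => ?_, ?_⟩
  · induction i using Fin.addCases with
    | left i =>
      rw [Fin.append_left, show finSumFinEquiv.permCongr (Equiv.Perm.sumCongr p q) (Fin.castAdd m i) = Fin.castAdd m (p i)
        by simp [Equiv.permCongr_apply], show eL.1 (Fin.castAdd m i) = f (eK.1 i) from heK i]
      exact hinl i
    | right j =>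
      rw [Fin.append_right, show finSumFinEquiv.permCongr (Equiv.Perm.sumCongr p q) (Fin.natAdd k j) = Fin.natAdd k (q j)
        by simp [Equiv.permCongr_apply]]
      exact hinr j
  · rw [Equiv.Perm.sign_permCongr, Equiv.Perm.sign_sumCongr, Fin.prod_univ_add]
    simp only [Fin.append_left, Fin.append_right]
    push_cast
    ring

theorem exists_lift (hg : Function.Surjective g) (hfg : LinearMap.range f = LinearMap.ker g) (hlen : k + m = l)
    (xK : Adm R K k) (xM : Adm R M m) (hsp : Submodule.span R (Set.range xK.1) = ⊤) :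
    ∃ xL : Adm R L l, (∀ i, xL.1 (Fin.cast hlen (Fin.castAdd m i)) = f (xK.1 i)) ∧
      (∀ j, g (xL.1 (Fin.cast hlen (Fin.natAdd k j))) = xM.1 j) ∧
      (Submodule.span R (Set.range xM.1) = ⊤ → Submodule.span R (Set.range xL.1) = ⊤) := by
  subst hlen
  choose y hy using fun j => hg (xM.1 j)
  let e : Fin (k + m) → L := Fin.append (fun i => f (xK.1 i)) y
  have hK : ∀ i, e (Fin.cast rfl (Fin.castAdd m i)) = f (xK.1 i) := fun i => by simp [e]
  have hM : ∀ j, g (e (Fin.cast rfl (Fin.natAdd k j))) = xM.1 j := fun j => by simp [e, hy]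
  refine ⟨⟨e, fun i r hr => ?_⟩, hK, hM, fun h => ?_⟩
  · induction i using Fin.addCases with
    | left i =>
      rw [Fin.val_castAdd, spanBefore_left rfl hK i.2.le, show e (Fin.castAdd m i) = f (xK.1 i) from hK i, ← map_smul]
      exact Submodule.mem_map_of_mem (xK.2 i r hr)
    | right j =>
      rw [Fin.val_natAdd, spanBefore_right hfg rfl hK hM hsp, Submodule.mem_comap, map_smul,
        show g (e (Fin.natAdd k j)) = xM.1 j from hM j]
      exact xM.2 j r hr
  · rw [← spanBefore_self, spanBefore_right hfg rfl hK hM hsp, spanBefore_self, h, Submodule.comap_top]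

theorem exists_gamma (hK : IsFiniteLength R K) (hM : IsFiniteLength R M) (hf : Function.Injective f)
    (hg : Function.Surjective g) (hfg : LinearMap.range f = LinearMap.ker g)
    (hlen : (Module.length R K).toNat + (Module.length R M).toNat = (Module.length R L).toNat) :
    ∃ γ : (Det R K ⊗[ResidueField R] Det R M) ≃ₗ[ResidueField R] Det R L,
      ∀ (eK : Adm R K (Module.length R K).toNat) (eM : Adm R M (Module.length R M).toNat)
        (eL : Adm R L (Module.length R L).toNat), symbol R K eK ≠ 0 →
      (∀ i, eL.1 (Fin.cast hlen (Fin.castAdd (Module.length R M).toNat i)) = f (eK.1 i)) →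
      (∀ j, g (eL.1 (Fin.cast hlen (Fin.natAdd (Module.length R K).toNat j))) = eM.1 j) →
      γ (symbol R K eK ⊗ₜ symbol R M eM) = symbol R L eL := by
  obtain ⟨_, _⟩ := isFiniteLength_iff_isNoetherian_isArtinian.mp hK
  obtain ⟨_, _⟩ := isFiniteLength_iff_isNoetherian_isArtinian.mp hM
  have hexact : Function.Exact f g := LinearMap.exact_iff.mpr hfg.symm
  have hL : IsFiniteLength R L := by
    rw [isFiniteLength_iff_isNoetherian_isArtinian]
    exact ⟨isNoetherian_of_range_eq_ker f g hfg, isArtinian_of_range_eq_ker f g hfg⟩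
  obtain ⟨_, _⟩ := isFiniteLength_iff_isNoetherian_isArtinian.mp hL
  obtain ⟨xK, hxK⟩ := exists_spanning (coe_length_toNat hK)
  obtain ⟨xM, hxM⟩ := exists_spanning (coe_length_toNat hM)
  obtain ⟨xL, h1, h2, h3⟩ := exists_lift hg hfg hlen xK xM hxK
  let ΦK := detEquiv (coe_length_toNat hK) xK hxK
  let ΦM := detEquiv (coe_length_toNat hM) xM hxM
  let ΦL := detEquiv (coe_length_toNat hL) xL (h3 hxM)
  refine ⟨(TensorProduct.congr ΦK ΦM).trans ((TensorProduct.lid _ _).trans ΦL.symm), fun eK eM eL he hK' hM' => ?_⟩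
  simp only [LinearEquiv.trans_apply, TensorProduct.congr_tmul, TensorProduct.lid_tmul]
  rw [LinearEquiv.symm_apply_eq]
  change detFun xK hxK (symbol R K eK) • detFun xM hxM (symbol R M eM) = detFun xL (h3 hxM) (symbol R L eL)
  rw [symbol, symbol, symbol, detFun_mk, detFun_mk, detFun_mk, smul_eq_mul]
  exact (phi_eq xL (h3 hxM) (val_append hf hg hfg hlen h1 h2 hK' hM' hxK
    (span_eq_top_of_symbol_ne_zero hK eK he) (val_phi xK hxK eK) (val_phi xM hxM eM))).symm

end

section

variable {R : Type u} [CommRing R] [IsLocalRing R] {M : Type v} [AddCommGroup M] [Module R M]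
  [Module (ResidueField R) M] [IsScalarTower R (ResidueField R) M]

theorem ιMulti_eq_zero {l : ℕ} {e : Fin l → M} {a : Fin l} {w : M} (hw : w ∈ spanBefore R M e a) :
    exteriorPower.ιMulti (ResidueField R) l (Function.update e a w) = 0 := by
  induction hw using Submodule.span_induction with
  | mem y hy =>
    obtain ⟨j, hj, rfl⟩ := hy
    have hja : j ≠ a := fun h => by subst h; exact lt_irrefl _ (show (j : ℕ) < j from hj)
    refine AlternatingMap.map_eq_zero_of_eq _ _ ?_ hja
    rw [Function.update_self, Function.update_of_ne hja]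
  | zero => exact AlternatingMap.map_update_zero _ _ _
  | add y z _ _ hy hz => rw [AlternatingMap.map_update_add, hy, hz, add_zero]
  | smul r y _ hy =>
    rw [← algebraMap_smul (ResidueField R) r y, AlternatingMap.map_update_smul, hy, smul_zero]

theorem exists_det_equiv [Module.Finite (ResidueField R) M] :
    ∃ Φ : Det R M ≃ₗ[ResidueField R] (⋀[ResidueField R]^((Module.length R M).toNat) M),
      ∀ e : Adm R M (Module.length R M).toNat,
        Φ (symbol R M e) = exteriorPower.ιMulti (ResidueField R) ((Module.length R M).toNat) e.1 := by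
  have hlen : Module.length R M = (Module.finrank (ResidueField R) M : ℕ∞) := by
    rw [Module.length_eq_of_surjective (R := ResidueField R) (S := R) residue_surjective, Module.length_eq_finrank]
  have hM : IsFiniteLength R M := Module.length_ne_top_iff.mp (by rw [hlen]; exact ENat.coe_ne_top _)
  obtain ⟨_, _⟩ := isFiniteLength_iff_isNoetherian_isArtinian.mp hM
  have hl : (Module.length R M).toNat = Module.finrank (ResidueField R) M := by rw [hlen]; rfl
  set l := (Module.length R M).toNat
  let Ψ : DetOfLen R M l →ₗ[ResidueField R] ⋀[ResidueField R]^l M :=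
    Submodule.liftQ _ (Finsupp.linearCombination (ResidueField R) fun e : Adm R M l => exteriorPower.ιMulti (ResidueField R) l e.1) (by
      rw [Submodule.span_le]
      rintro y ((⟨e, a, ha, rfl⟩ | ⟨e, e', a, c, hne, ha, rfl⟩) | ⟨e, e', a, b, hab, hm, he', rfl⟩)
      · rw [SetLike.mem_coe, LinearMap.mem_ker, sym, Finsupp.linearCombination_single, one_smul,
          ← Function.update_eq_self a e.1]
        exact ιMulti_eq_zero ha
      · rw [SetLike.mem_coe, LinearMap.mem_ker, map_sub, map_smul, sym, sym, Finsupp.linearCombination_single,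
          Finsupp.linearCombination_single, one_smul, one_smul, sub_eq_zero]
        have h1 : e.1 = Function.update e'.1 a ((e.1 a - (c : R) • e'.1 a) + residue R (c : R) • e'.1 a) := by
          rw [← ResidueField.algebraMap_eq, algebraMap_smul, sub_add_cancel]
          funext i
          rcases eq_or_ne i a with rfl | h
          · rw [Function.update_self]
          · rw [Function.update_of_ne h, hne i h]
        have h2 : spanBefore R M e.1 a = spanBefore R M e'.1 a :=
          spanBefore_congr fun j hj => hne j fun h => by subst h; exact lt_irrefl _ hj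
        conv_lhs => rw [h1]
        rw [AlternatingMap.map_update_add, ιMulti_eq_zero (h2 ▸ ha), zero_add, AlternatingMap.map_update_smul,
          Function.update_eq_self]
      · rw [SetLike.mem_coe, LinearMap.mem_ker, map_add, sym, sym, Finsupp.linearCombination_single,
          Finsupp.linearCombination_single, one_smul, one_smul, he',
          AlternatingMap.map_swap _ _ (show a ≠ b from fun h => by subst h; omega), add_neg_cancel])
  obtain ⟨x, hx'⟩ := exists_spanning (coe_length_toNat hM)
  let E := detEquiv (coe_length_toNat hM) x hx'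
  have hsurj : Function.Surjective Ψ := by
    rw [← LinearMap.range_eq_top, eq_top_iff, ← exteriorPower.ιMulti_span, Submodule.span_le]
    rintro _ ⟨e, rfl⟩
    refine ⟨Submodule.Quotient.mk (sym R M ⟨e, fun i r hr => ?_⟩), by simp [Ψ, sym]⟩
    rw [← algebraMap_smul (ResidueField R) r (e i), ResidueField.algebraMap_eq, (residue_eq_zero_iff r).mpr hr,
      zero_smul]
    exact Submodule.zero_mem _
  have hfin : Module.Finite (ResidueField R) (DetOfLen R M l) := Module.Finite.equiv E.symm
  have hdim : Module.finrank (ResidueField R) (DetOfLen R M l) = Module.finrank (ResidueField R) (⋀[ResidueField R]^l M) := by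
    rw [E.finrank_eq, Module.finrank_self, exteriorPower.finrank_eq, hl, Nat.choose_self]
  refine ⟨LinearEquiv.ofBijective Ψ ⟨(LinearMap.injective_iff_surjective_of_finrank_eq_finrank hdim).mpr hsurj, hsurj⟩,
    fun e => ?_⟩
  change Ψ (symbol R M e) = _
  simp [Ψ, symbol, sym]
  rfl

end

end Groth.Agent.CycDetFun
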