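import Groth.Agent.CycDetFun.Basic

/-!
# The determinant line of a finite length module
-/

universe u v

open IsLocalRing

namespace Groth.Agent.CycDetFun

open CycDet

variable {R : Type u} [CommRing R] [IsLocalRing R] {M : Type v} [AddCommGroup M] [Module R M] {l : ℕ}

theorem length_step (e : Fin l → M) (he : IsAdmissible R M e) (i : Fin l) :
    Module.length R (spanBefore R M e (i + 1)) ≤ Module.length R (spanBefore R M e i) + 1 := by
  let P : Submodule R (spanBefore R M e (i + 1)) := (spanBefore R M e i).comap (spanBefore R M e (i + 1)).subtype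
  rw [Module.length_eq_add_of_exact P.subtype P.mkQ P.injective_subtype P.mkQ_surjective
    (LinearMap.exact_subtype_mkQ P)]
  refine add_le_add (le_of_eq (Submodule.comapSubtypeEquivOfLe (spanBefore_mono e (Nat.le_succ i))).length_eq) ?_
  let v : spanBefore R M e (i + 1) := ⟨e i, mem_spanBefore e (Nat.lt_succ_self i)⟩
  let f : (R ⧸ maximalIdeal R) →ₗ[R] spanBefore R M e (i + 1) ⧸ P :=
    Submodule.liftQ _ (LinearMap.toSpanSingleton R _ (P.mkQ v)) fun r hr => by
      rw [LinearMap.mem_ker, LinearMap.toSpanSingleton_apply, ← map_smul, Submodule.mkQ_apply,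
        Submodule.Quotient.mk_eq_zero]
      exact he i r hr
  have hf : Function.Surjective f := fun q => by
    obtain ⟨⟨w, hw⟩, rfl⟩ := P.mkQ_surjective q
    have hw' := hw
    rw [spanBefore_succ, Submodule.mem_sup] at hw'
    obtain ⟨y, hy, z, hz, hyz⟩ := hw'
    obtain ⟨r, rfl⟩ := Submodule.mem_span_singleton.mp hz
    refine ⟨Submodule.Quotient.mk r, ?_⟩
    change LinearMap.toSpanSingleton R _ (P.mkQ v) r = _
    rw [LinearMap.toSpanSingleton_apply, ← map_smul, Submodule.mkQ_apply, Submodule.mkQ_apply, Submodule.Quotient.eq]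
    change r • e i - w ∈ spanBefore R M e i
    rw [← hyz, sub_add_cancel_right]
    exact neg_mem hy
  have : IsSimpleModule R (R ⧸ maximalIdeal R) :=
    isSimpleModule_iff_isCoatom.mpr (Ideal.isMaximal_def.mp (maximalIdeal.isMaximal R))
  exact (Module.length_le_of_surjective f hf).trans (le_of_eq (Module.length_eq_one R (R ⧸ maximalIdeal R)))

theorem length_spanBefore_le (e : Fin l → M) (he : IsAdmissible R M e) (i : ℕ) (hi : i ≤ l) :
    Module.length R (spanBefore R M e i) ≤ i := by
  induction i with
  | zero => rw [spanBefore_zero, Module.length_bot]; exact zero_le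
  | succ i ih =>
    push_cast
    exact (length_step e he ⟨i, hi⟩).trans (add_le_add (ih (Nat.le_of_succ_le hi)) le_rfl)

theorem length_spanBefore_lt (e : Fin l → M) (he : IsAdmissible R M e) {a : Fin l}
    (ha : e a ∈ spanBefore R M e a) (i : ℕ) (hai : (a : ℕ) < i) (hi : i ≤ l) :
    Module.length R (spanBefore R M e i) + 1 ≤ i := by
  induction i with
  | zero => omega
  | succ i ih =>
    rcases Nat.lt_or_ge (a : ℕ) i with h | h
    · push_cast
      exact (add_le_add (length_step e he ⟨i, hi⟩) le_rfl).trans
        (add_le_add (ih h (Nat.le_of_succ_le hi)) le_rfl)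
    · obtain rfl : i = (a : ℕ) := by omega
      rw [spanBefore_succ, sup_eq_left.mpr ((Submodule.span_singleton_le_iff_mem _ _).mpr ha)]
      push_cast
      exact add_le_add (length_spanBefore_le e he a a.2.le) le_rfl

theorem not_deg_of_span (hM : Module.length R M = l) (e : Adm R M l) (he : Submodule.span R (Set.range e.1) = ⊤) :
    ¬ Deg e := by
  rintro ⟨a, ha⟩
  have h := length_spanBefore_lt e.1 e.2 ha l a.2 le_rfl
  rw [spanBefore_self, he, Module.length_top, hM] at h
  exact absurd h (by exact_mod_cast Nat.not_succ_le_self l)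

theorem span_eq_top_of_strict [IsArtinian R M] [IsNoetherian R M] (hM : Module.length R M = l) (e : Fin l → M)
    (hd : ∀ i : Fin l, e i ∉ spanBefore R M e i) : Submodule.span R (Set.range e) = ⊤ := by
  by_contra hne
  have key : ∀ i : ℕ, i ≤ l → (i : ℕ∞) ≤ Order.height (spanBefore R M e i) := by
    intro i
    induction i with
    | zero => simp
    | succ i ih =>
      intro hi
      have hlt : spanBefore R M e i < spanBefore R M e (i + 1) :=
        lt_of_le_not_ge (spanBefore_mono e (Nat.le_succ i)) fun hle =>
          hd ⟨i, hi⟩ (hle (mem_spanBefore e (j := ⟨i, hi⟩) (Nat.lt_succ_self i)))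
      push_cast
      exact (add_le_add (ih (Nat.le_of_succ_le hi)) le_rfl).trans
        (ENat.add_one_le_iff (Submodule.height_lt_top _).ne |>.mpr (Submodule.height_strictMono hlt))
  have h := Submodule.length_lt (R := R) hne
  rw [hM, ← spanBefore_self, Module.length_submodule] at h
  exact absurd h (not_lt.mpr (key l le_rfl))

theorem exists_smul_mem [IsArtinian R M] {S : Submodule R M} (hS : S ≠ ⊤) :
    ∃ v, v ∉ S ∧ ∀ r ∈ maximalIdeal R, r • v ∈ S := by
  obtain ⟨T, hT, hmin⟩ := (wellFounded_lt (α := Submodule R M)).has_min {T | S < T} ⟨⊤, lt_top_iff_ne_top.mpr hS⟩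
  obtain ⟨v, hvT, hvS⟩ := SetLike.exists_of_lt (show S < T from hT)
  refine ⟨v, hvS, fun r hr => ?_⟩
  by_contra hrv
  have hlt : S < S ⊔ Submodule.span R {r • v} :=
    lt_of_le_not_ge le_sup_left fun h => hrv (h (Submodule.mem_sup_right (Submodule.mem_span_singleton_self _)))
  have hle : S ⊔ Submodule.span R {r • v} ≤ T :=
    sup_le hT.le ((Submodule.span_singleton_le_iff_mem _ _).mpr (T.smul_mem r hvT))
  have hv : v ∈ S ⊔ Submodule.span R {r • v} := by
    rw [eq_of_le_of_not_lt hle (hmin _ hlt)]; exact hvT
  obtain ⟨s, hs, z, hz, hsz⟩ := Submodule.mem_sup.mp hv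
  obtain ⟨k, rfl⟩ := Submodule.mem_span_singleton.mp hz
  have hu : IsUnit (1 - k * r) := IsLocalRing.isUnit_one_sub_self_of_mem_nonunits _
    ((mem_maximalIdeal _).mp (Ideal.mul_mem_left _ k hr))
  refine hvS (smul_mem_of_unit hu ?_)
  rw [sub_smul, one_smul, mul_smul]
  nth_rw 1 [← hsz]
  simpa using hs

theorem exists_spanning [IsArtinian R M] [IsNoetherian R M] (hM : Module.length R M = l) :
    ∃ x : Adm R M l, Submodule.span R (Set.range x.1) = ⊤ := by
  have key : ∀ n, n ≤ l → ∃ e : Fin n → M, IsAdmissible R M e ∧ ∀ i : Fin n, e i ∉ spanBefore R M e i := by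
    intro n
    induction n with
    | zero => exact fun _ => ⟨Fin.elim0, fun i => i.elim0, fun i => i.elim0⟩
    | succ n ih =>
      intro hn
      obtain ⟨e, he, hd⟩ := ih (Nat.le_of_succ_le hn)
      have hne : Submodule.span R (Set.range e) ≠ ⊤ := fun h => by
        have := length_spanBefore_le e he n le_rfl
        rw [spanBefore_self, h, Module.length_top, hM] at this
        exact absurd this (by exact_mod_cast (by omega : ¬ l ≤ n))
      obtain ⟨v, hv, hv'⟩ := exists_smul_mem (R := R) hne
      have hsp : ∀ i : ℕ, i ≤ n → spanBefore R M (Fin.snoc e v) i = spanBefore R M e i := by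
        intro i hi
        refine le_antisymm ((spanBefore_le_iff _).mpr fun j hj => ?_) ((spanBefore_le_iff e).mpr fun j hj => ?_)
        · obtain ⟨j', rfl⟩ := Fin.exists_castSucc_eq.mpr (Fin.ne_of_lt (show (j : ℕ) < (Fin.last n : ℕ) by simp; omega))
          rw [Fin.snoc_castSucc]
          exact mem_spanBefore e (by simpa using hj)
        · have := mem_spanBefore (R := R) (Fin.snoc e v : Fin (n + 1) → M) (j := j.castSucc) (i := i) (by simpa using hj)
          rwa [Fin.snoc_castSucc] at this
      refine ⟨Fin.snoc e v, fun i r hr => ?_, fun i => ?_⟩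
      · rcases Fin.eq_castSucc_or_eq_last i with ⟨j, rfl⟩ | rfl
        · rw [Fin.snoc_castSucc, Fin.val_castSucc, hsp _ j.is_le']; exact he j r hr
        · rw [Fin.snoc_last, Fin.val_last, hsp _ le_rfl, spanBefore_self]; exact hv' r hr
      · rcases Fin.eq_castSucc_or_eq_last i with ⟨j, rfl⟩ | rfl
        · rw [Fin.snoc_castSucc, Fin.val_castSucc, hsp _ j.is_le']; exact hd j
        · rw [Fin.snoc_last, Fin.val_last, hsp _ le_rfl, spanBefore_self]; exact hv
  obtain ⟨e, he, hd⟩ := key l le_rfl
  exact ⟨⟨e, he⟩, span_eq_top_of_strict hM e hd⟩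

theorem mk_sym_eq_zero {e : Adm R M l} (h : Deg e) :
    (Submodule.Quotient.mk (sym R M e) : DetOfLen R M l) = 0 := by
  obtain ⟨a, ha⟩ := h
  exact (Submodule.Quotient.mk_eq_zero _).mpr (Submodule.subset_span (Or.inl (Or.inl ⟨e, a, ha, rfl⟩)))

theorem mk_sym_update {e e' : Adm R M l} {a : Fin l} (c : Rˣ) (hne : ∀ j, j ≠ a → e.1 j = e'.1 j)
    (ha : e.1 a - (c : R) • e'.1 a ∈ spanBefore R M e.1 a) :
    (Submodule.Quotient.mk (sym R M e) : DetOfLen R M l) = residue R (c : R) • Submodule.Quotient.mk (sym R M e') := by
  rw [← Submodule.Quotient.mk_smul, Submodule.Quotient.eq]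
  exact Submodule.subset_span (Or.inl (Or.inr ⟨e, e', a, c, hne, ha, rfl⟩))

theorem mk_sym_swap {e e' : Adm R M l} {a b : Fin l} (hab : (b : ℕ) + 1 = a)
    (hm : ∀ r ∈ maximalIdeal R, r • e.1 a ∈ spanBefore R M e.1 b) (he' : e'.1 = e.1 ∘ Equiv.swap a b) :
    (Submodule.Quotient.mk (sym R M e) : DetOfLen R M l) = -Submodule.Quotient.mk (sym R M e') := by
  rw [eq_neg_iff_add_eq_zero, ← Submodule.Quotient.mk_add, Submodule.Quotient.mk_eq_zero]
  exact Submodule.subset_span (Or.inr ⟨e, e', a, b, hab, hm, he', rfl⟩)

theorem mk_sym_mem_span [IsArtinian R M] [IsNoetherian R M] (hM : Module.length R M = l) (x : Adm R M l)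
    (hx' : Submodule.span R (Set.range x.1) = ⊤) (e : Adm R M l) :
    (Submodule.Quotient.mk (sym R M e) : DetOfLen R M l) ∈
      Submodule.span (ResidueField R) {(Submodule.Quotient.mk (sym R M x) : DetOfLen R M l)} := by
  set L : Submodule (ResidueField R) (DetOfLen R M l) :=
    Submodule.span (ResidueField R) {(Submodule.Quotient.mk (sym R M x) : DetOfLen R M l)}
  have key : ∀ d k, l = k + d → ∀ e : Adm R M l, (∀ j : Fin l, (j : ℕ) < k → e.1 j = x.1 j) →
      (Submodule.Quotient.mk (sym R M e) : DetOfLen R M l) ∈ L := by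
    intro d
    induction d with
    | zero =>
      intro k hk e he
      have : e = x := Subtype.ext (funext fun j => he j (by omega))
      rw [this]
      exact Submodule.mem_span_singleton_self _
    | succ d ih =>
      intro k hk e he
      let k' : Fin l := ⟨k, by omega⟩
      have hVk : spanBefore R M e.1 k = spanBefore R M x.1 k := spanBefore_congr he
      -- moving `x k` from position `j` down to position `k`
      have move : ∀ n, ∀ e : Adm R M l, (∀ i : Fin l, (i : ℕ) < k → e.1 i = x.1 i) →
          ∀ j : Fin l, (j : ℕ) = k + n → e.1 j = x.1 k' →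
          (Submodule.Quotient.mk (sym R M e) : DetOfLen R M l) ∈ L := by
        intro n
        induction n with
        | zero =>
          intro e he j hj hej
          refine ih (k + 1) (by omega) e fun i hi => ?_
          rcases Nat.lt_or_ge (i : ℕ) k with h | h
          · exact he i h
          · rw [show i = j from Fin.ext (by omega), hej]
            exact congrArg x.1 (Fin.ext (show k = (j : ℕ) by omega))
        | succ n ihn =>
          intro e he j hj hej
          let b : Fin l := ⟨k + n, by omega⟩
          have hab : (b : ℕ) + 1 = j := by simp only [b]; omega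
          have hm : ∀ r ∈ maximalIdeal R, r • e.1 j ∈ spanBefore R M e.1 b := fun r hr => by
            rw [hej]
            refine spanBefore_mono e.1 (show k ≤ (b : ℕ) by simp [b]) ?_
            rw [spanBefore_congr he]
            exact x.2 k' r hr
          have hadm : IsAdmissible R M (e.1 ∘ Equiv.swap j b) := by
            intro i r hr
            rcases eq_or_ne i j with rfl | hij
            · rw [Function.comp_apply, Equiv.swap_apply_left]
              have h1 : spanBefore R M (e.1 ∘ Equiv.swap i b) b ≤ spanBefore R M (e.1 ∘ Equiv.swap i b) i :=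
                spanBefore_mono _ (by omega)
              exact h1 (by rw [spanBefore_swap hab (by omega)]; exact e.2 b r hr)
            rcases eq_or_ne i b with rfl | hib
            · rw [Function.comp_apply, Equiv.swap_apply_right, spanBefore_swap hab (by omega)]
              exact hm r hr
            rw [Function.comp_apply, Equiv.swap_apply_of_ne_of_ne hij hib,
              spanBefore_swap hab (fun h => hij (Fin.ext h))]
            exact e.2 i r hr
          rw [mk_sym_swap hab hm (e' := ⟨_, hadm⟩) rfl]
          refine L.neg_mem (ihn ⟨_, hadm⟩ (fun i hi => ?_) b rfl ?_)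
          · change e.1 (Equiv.swap j b i) = _
            rw [Equiv.swap_apply_of_ne_of_ne (fun h => by subst h; omega) (fun h => by
              have := congrArg Fin.val h; simp [b] at this; omega)]
            exact he i hi
          · change e.1 (Equiv.swap j b b) = _
            rw [Equiv.swap_apply_right]; exact hej
      by_cases hd : Deg e
      · rw [mk_sym_eq_zero hd]; exact L.zero_mem
      have hstrict : ∀ i : Fin l, e.1 i ∉ spanBefore R M e.1 i := fun i hi => hd ⟨i, hi⟩
      have hex : ∃ n, x.1 k' ∈ spanBefore R M e.1 n :=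
        ⟨l, by rw [spanBefore_self, span_eq_top_of_strict hM e.1 hstrict]; trivial⟩
      classical
      let n := Nat.find hex
      have hn : x.1 k' ∈ spanBefore R M e.1 n := Nat.find_spec hex
      have hnl : n ≤ l := Nat.find_le (by rw [spanBefore_self, span_eq_top_of_strict hM e.1 hstrict]; trivial)
      have hnk : k < n := by
        by_contra hle
        refine not_deg_of_span hM x hx' ⟨k', ?_⟩
        change x.1 k' ∈ spanBefore R M x.1 k
        rw [← hVk]
        exact spanBefore_mono e.1 (not_lt.mp hle) hn
      let j : Fin l := ⟨n - 1, by omega⟩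
      have hjn : (j : ℕ) + 1 = n := by simp only [j]; omega
      have hnot : x.1 k' ∉ spanBefore R M e.1 j := Nat.find_min hex (show (j : ℕ) < n by omega)
      have hn' := hn
      rw [← hjn, spanBefore_succ, Submodule.mem_sup] at hn'
      obtain ⟨y, hy, z, hz, hyz⟩ := hn'
      obtain ⟨r, rfl⟩ := Submodule.mem_span_singleton.mp hz
      have hr : IsUnit r := by
        by_contra hr
        exact hnot (hyz ▸ add_mem hy (e.2 j r ((mem_maximalIdeal r).mpr hr)))
      have hdiff : (Function.update e.1 j (x.1 k')) j - r • e.1 j ∈ spanBefore R M (Function.update e.1 j (x.1 k')) j := by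
        rw [Function.update_self, spanBefore_congr (e' := e.1) fun i hi => Function.update_of_ne
          (fun h => by subst h; exact lt_irrefl _ hi) _ _, ← hyz, add_sub_cancel_right]
        exact hy
      have hs : ∀ i, spanBefore R M (Function.update e.1 j (x.1 k')) i = spanBefore R M e.1 i :=
        spanBefore_update hr (fun i hi => Function.update_of_ne hi _ _) hdiff
      have hadm : IsAdmissible R M (Function.update e.1 j (x.1 k')) := by
        intro i s hs'
        rw [hs]
        rcases eq_or_ne i j with rfl | hij
        · rw [Function.update_self]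
          exact spanBefore_mono e.1 (show k ≤ (j : ℕ) by omega) (hVk ▸ x.2 k' s hs')
        · rw [Function.update_of_ne hij]; exact e.2 i s hs'
      have h1 := mk_sym_update (e := ⟨_, hadm⟩) (e' := e) hr.unit (a := j)
        (fun i hi => Function.update_of_ne hi _ _) (by rw [IsUnit.unit_spec]; exact hdiff)
      have h2 := move ((j : ℕ) - k) ⟨_, hadm⟩ (fun i hi => by
        change Function.update e.1 j (x.1 k') i = _
        rw [Function.update_of_ne (fun h => by subst h; omega)]
        exact he i hi) j (by omega) (Function.update_self _ _ _)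
      rw [h1] at h2
      exact (L.smul_mem_iff ((hr.unit.isUnit.map (residue R)).ne_zero)).mp h2
  exact key l 0 (zero_add l).symm e fun j hj => absurd hj (Nat.not_lt_zero _)

theorem mem_span_mk [IsArtinian R M] [IsNoetherian R M] (hM : Module.length R M = l) (x : Adm R M l)
    (hx' : Submodule.span R (Set.range x.1) = ⊤) (y : DetOfLen R M l) :
    y ∈ Submodule.span (ResidueField R) {(Submodule.Quotient.mk (sym R M x) : DetOfLen R M l)} := by
  obtain ⟨f, rfl⟩ := Submodule.Quotient.mk_surjective _ y
  induction f using Finsupp.induction_linear with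
  | zero => exact Submodule.zero_mem _
  | add f g hf hg => rw [Submodule.Quotient.mk_add]; exact add_mem hf hg
  | single e c =>
    rw [show Finsupp.single e c = c • sym R M e by simp [sym], Submodule.Quotient.mk_smul]
    exact Submodule.smul_mem _ c (mk_sym_mem_span hM x hx' e)

theorem phi_self (hM : Module.length R M = l) (x : Adm R M l) (hx' : Submodule.span R (Set.range x.1) = ⊤) :
    phi x hx' x = 1 := by
  refine phi_eq x hx' (Or.inr ⟨Equiv.refl _, fun _ => 1, fun i => ⟨?_, 1, map_one _, by simp⟩, by simp⟩)
  simp only [Equiv.refl_apply, sup_idem]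
  exact fun h => not_deg_of_span hM x hx' ⟨i, h⟩

/-- `det_κ(M)` is identified with `κ` by a spanning admissible tuple. -/
noncomputable def detEquiv [IsArtinian R M] [IsNoetherian R M] (hM : Module.length R M = l) (x : Adm R M l)
    (hx' : Submodule.span R (Set.range x.1) = ⊤) : DetOfLen R M l ≃ₗ[ResidueField R] ResidueField R :=
  LinearEquiv.ofBijective (detFun x hx') (by
    constructor
    · rw [← LinearMap.ker_eq_bot, eq_bot_iff]
      intro y hy
      obtain ⟨c, rfl⟩ := Submodule.mem_span_singleton.mp (mem_span_mk hM x hx' y)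
      rw [LinearMap.mem_ker, map_smul, detFun_mk, phi_self hM x hx', smul_eq_mul, mul_one] at hy
      simp [hy]
    · intro c
      exact ⟨c • Submodule.Quotient.mk (sym R M x), by rw [map_smul, detFun_mk, phi_self hM x hx', smul_eq_mul, mul_one]⟩)

theorem coe_length_toNat (h : IsFiniteLength R M) : Module.length R M = ((Module.length R M).toNat : ℕ∞) :=
  (ENat.coe_toNat (Module.length_ne_top_iff.mpr h)).symm

theorem rank_det_le_one (hM : IsFiniteLength R M) :
    Module.rank (ResidueField R) (Det R M) ≤ 1 := by
  obtain ⟨_, _⟩ := isFiniteLength_iff_isNoetherian_isArtinian.mp hM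
  obtain ⟨x, hx'⟩ := exists_spanning (coe_length_toNat hM)
  rw [rank_le_one_iff]
  exact ⟨Submodule.Quotient.mk (sym R M x), fun y =>
    Submodule.mem_span_singleton.mp (mem_span_mk (coe_length_toNat hM) x hx' y)⟩

theorem symbol_ne_zero (hM : IsFiniteLength R M) (e : Adm R M (Module.length R M).toNat)
    (he : Submodule.span R (Set.range e.1) = ⊤) : symbol R M e ≠ 0 := by
  intro h
  have h1 := congrArg (detFun e he) h
  rw [map_zero, symbol, detFun_mk, phi_self (coe_length_toNat hM) e he] at h1
  exact one_ne_zero h1

theorem span_eq_top_of_symbol_ne_zero (hM : IsFiniteLength R M) (e : Adm R M (Module.length R M).toNat)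
    (he : symbol R M e ≠ 0) : Submodule.span R (Set.range e.1) = ⊤ := by
  obtain ⟨_, _⟩ := isFiniteLength_iff_isNoetherian_isArtinian.mp hM
  exact span_eq_top_of_strict (coe_length_toNat hM) e.1 fun i hi => he (mk_sym_eq_zero ⟨i, hi⟩)

end Groth.Agent.CycDetFun
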